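import Groth.Agent.FlatLocus.Basic
import Groth.Agent.SchTop.Closed
import Groth.Agent.AlgSpDec.BirationalNormalScheme
import Groth.Agent.ModelMor.Extend
import Mathlib.RingTheory.IntegralClosure.GoingDown
import Mathlib.RingTheory.Ideal.KrullsHeightTheorem

/-!
# A finite surjection onto a normal surface is flat outside finitely many points
-/

set_option autoImplicit false
set_option linter.style.haveILetI false
set_option backward.isDefEq.respectTransparency false
set_option backward.isDefEq.respectTransparency.types false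
set_option synthInstance.maxHeartbeats 400000

universe u

open CategoryTheory CategoryTheory.Limits AlgebraicGeometry TopologicalSpace

namespace Groth.Agent.NormFlat

open Groth.Agent

variable {X Y : Scheme.{u}}

/-- A point with two-dimensional local ring on a two-dimensional scheme is closed. -/
theorem isClosed_singleton_of_two (hY : topologicalKrullDim Y ≤ 2) {x : Y}
    (hx : ringKrullDim (Y.presheaf.stalk x) = 2) : IsClosed ({x} : Set Y) := by
  refine isClosed_of_closure_subset fun y hy => ?_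
  by_contra hne
  have hyx : x ⤳ y := specializes_iff_mem_closure.2 hy
  have hlt : y < x := lt_of_le_not_ge (show y ≤ x from hyx) (fun h => hne ((show y ⤳ x from h).antisymm hyx).eq)
  have h1 := Order.coheight_add_one_le hlt
  have h2 := (ringKrullDim_stalk_eq_coheight y).symm.le.trans ((SchTop.ringKrullDim_stalk_le y).trans hY)
  rw [ringKrullDim_stalk_eq_coheight] at hx
  have hx' : Order.coheight x = 2 := WithBot.coe_injective hx
  rw [hx'] at h1
  exact absurd (h1.trans (WithBot.coe_le_coe.1 h2)) (by decide)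

variable [IsIntegral X] [IsIntegral Y] (f : X ⟶ Y) [Surjective f]

theorem app_injective (U : Y.Opens) : Function.Injective (f.app U) := by
  refine (injective_iff_map_eq_zero (f.app U).hom).2 fun r hr => ?_
  refine (basicOpen_eq_bot_iff r).1 (Opens.ext (Set.eq_empty_iff_forall_notMem.2 fun y hy => ?_))
  obtain ⟨x, rfl⟩ := f.surjective y
  have hmem : x ∈ f ⁻¹ᵁ Y.basicOpen r := hy
  have hzero : f ⁻¹ᵁ Y.basicOpen r = ⊥ := by
    rw [Scheme.preimage_basicOpen]
    exact (basicOpen_eq_bot_iff _).2 hr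
  rw [hzero] at hmem
  exact hmem

theorem stalkMap_injective (x : X) : Function.Injective (f.stalkMap x) := by
  refine (injective_iff_map_eq_zero (f.stalkMap x).hom).2 fun r hr => ?_
  obtain ⟨W, hW, a, rfl⟩ := Y.presheaf.germ_exist r
  change f.stalkMap x (Y.presheaf.germ W (f x) hW a) = 0 at hr
  rw [Scheme.Hom.germ_stalkMap_apply] at hr
  haveI : Nonempty (f ⁻¹ᵁ W : X.Opens) := ⟨⟨x, hW⟩⟩
  have h1 : f.app W a = 0 := germ_injective_of_isIntegral X x hW (hr.trans (map_zero _).symm)
  rw [app_injective f W (h1.trans (map_zero _).symm), map_zero]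

theorem flat_stalkMap (hY : Pi1.IsNormalScheme Y) [IsLocallyNoetherian Y] (x : X)
    (hx : ringKrullDim (Y.presheaf.stalk (f x)) ≤ 1) : (f.stalkMap x).hom.Flat := by
  haveI := (hY (f x)).2
  haveI : Ring.KrullDimLE 1 (Y.presheaf.stalk (f x)) := Ring.krullDimLE_iff.2 (by exact_mod_cast hx)
  haveI : Ring.DimensionLEOne (Y.presheaf.stalk (f x)) := ⟨fun {p} hp hp' => hp'.isMaximal_of_ne_bot hp⟩
  haveI : IsDedekindDomain (Y.presheaf.stalk (f x)) := { }
  haveI : IsPrincipalIdealRing (Y.presheaf.stalk (f x)) := IsPrincipalIdealRing.of_finite_maximals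
    ((Set.finite_singleton (IsLocalRing.maximalIdeal _)).subset fun I hI => IsLocalRing.eq_maximalIdeal hI)
  algebraize [(f.stalkMap x).hom]
  refine Module.Flat.flat_iff_torsion_eq_bot_of_isBezout.2 (eq_bot_iff.2 fun m hm => ?_)
  obtain ⟨⟨r, hr⟩, hrm⟩ := hm
  change r • m = 0 at hrm
  rw [Algebra.smul_def] at hrm
  exact (mul_eq_zero.1 hrm).resolve_left fun e =>
    nonZeroDivisors.ne_zero hr (stalkMap_injective f x (e.trans (map_zero (f.stalkMap x).hom).symm))

theorem le_one_of_lt_two {a : WithBot ℕ∞} (h : a < 2) : a ≤ 1 := by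
  induction a with
  | bot => exact bot_le
  | coe a => exact WithBot.coe_le_coe.2 (Order.le_of_lt_succ (by
      have := WithBot.coe_lt_coe.1 (show (a : WithBot ℕ∞) < ((2 : ℕ∞) : WithBot ℕ∞) from h)
      simpa [Order.succ_eq_add_one, one_add_one_eq_two] using this))

variable [IsFinite f]

theorem ringKrullDim_le_of_finite (hY : Pi1.IsNormalScheme Y) [IsLocallyNoetherian Y] [IsLocallyNoetherian X] (x : X) :
    ringKrullDim (Y.presheaf.stalk (f x)) ≤ ringKrullDim (X.presheaf.stalk x) := by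
  obtain ⟨V, hV, hxV, -⟩ := exists_isAffineOpen_mem_and_subset (X := Y) (x := f x) (U := ⊤) trivial
  have hU : IsAffineOpen (f ⁻¹ᵁ V) := hV.preimage f
  haveI : Nonempty V := ⟨⟨f x, hxV⟩⟩
  haveI : Nonempty (f ⁻¹ᵁ V : X.Opens) := ⟨⟨x, hxV⟩⟩
  haveI := AlgSpDec.BiratNormal.isIntegrallyClosed_sections hY hV
  haveI : IsNoetherianRing Γ(Y, V) := IsLocallyNoetherian.component_noetherian ⟨_, hV⟩
  haveI : IsNoetherianRing Γ(X, f ⁻¹ᵁ V) := IsLocallyNoetherian.component_noetherian ⟨_, hU⟩
  have hfin : (f.app V).hom.Finite := IsFinite.finite_app f V hV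
  algebraize [(f.app V).hom]
  haveI : FaithfulSMul Γ(Y, V) Γ(X, f ⁻¹ᵁ V) := (faithfulSMul_iff_algebraMap_injective _ _).2 (app_injective f V)
  haveI : Algebra.IsIntegral Γ(Y, V) Γ(X, f ⁻¹ᵁ V) := Algebra.IsIntegral.of_finite _ _
  letI := TopCat.Presheaf.algebra_section_stalk Y.presheaf ⟨f x, hxV⟩
  letI := TopCat.Presheaf.algebra_section_stalk X.presheaf (U := f ⁻¹ᵁ V) ⟨x, hxV⟩
  haveI := hV.isLocalization_stalk ⟨f x, hxV⟩
  haveI := hU.isLocalization_stalk ⟨x, hxV⟩
  let p := (hV.primeIdealOf ⟨f x, hxV⟩).asIdeal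
  let P := (hU.primeIdealOf ⟨x, hxV⟩).asIdeal
  have hP : PrimeSpectrum.comap (f.app V).hom (hU.primeIdealOf ⟨x, hxV⟩) = hV.primeIdealOf ⟨f x, hxV⟩ := by
    refine hV.fromSpec.isOpenEmbedding.injective ?_
    rw [hV.fromSpec_primeIdealOf]
    have := congrArg (fun m : Spec Γ(X, f ⁻¹ᵁ V) ⟶ Y => m (hU.primeIdealOf ⟨x, hxV⟩)) (hV.SpecMap_appLE_fromSpec f hU le_rfl)
    simp only [Scheme.Hom.appLE_eq_app, Scheme.Hom.comp_apply] at this
    refine this.trans ?_
    rw [hU.fromSpec_primeIdealOf]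
  haveI : P.LiesOver p := ⟨(congrArg PrimeSpectrum.asIdeal hP).symm⟩
  rw [IsLocalization.AtPrime.ringKrullDim_eq_height p (Y.presheaf.stalk (f x)),
    IsLocalization.AtPrime.ringKrullDim_eq_height P (X.presheaf.stalk x),
    Ideal.height_eq_height_add_of_liesOver_of_hasGoingDown p P]
  exact WithBot.coe_le_coe.2 le_self_add

/-- A finite surjection onto a normal surface is flat outside finitely many points. -/
theorem exists_flat_open (hnY : Pi1.IsNormalScheme Y) [IsLocallyNoetherian Y] [CompactSpace Y]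
    [IsLocallyNoetherian X] [LocallyOfFinitePresentation f]
    (hdX : topologicalKrullDim X = 2) (hdY : topologicalKrullDim Y = 2) :
    ∃ V : Y.Opens, ((V : Set Y)ᶜ).Finite ∧ (∀ y : Y, y ∉ V → ringKrullDim (Y.presheaf.stalk y) = 2) ∧
      (((f ⁻¹ᵁ V : X.Opens) : Set X)ᶜ).Finite ∧ (∀ x : X, x ∉ f ⁻¹ᵁ V → ringKrullDim (X.presheaf.stalk x) = 2) ∧
      Flat (f ∣_ V) := by
  let Z : Set Y := f '' {x : X | (f.stalkMap x).hom.Flat}ᶜ
  have hZc : IsClosed Z := f.isClosedMap _ (FlatLocus.isOpen_flat_locus f).isClosed_compl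
  let V : Y.Opens := ⟨Zᶜ, hZc.isOpen_compl⟩
  have hVc : ((V : Set Y)ᶜ) = Z := compl_compl Z
  have hdim : ∀ y ∈ Z, ringKrullDim (Y.presheaf.stalk y) = 2 := by
    rintro _ ⟨x, hx, rfl⟩
    refine le_antisymm ((SchTop.ringKrullDim_stalk_le (f x)).trans hdY.le) ?_
    by_contra h
    refine hx (flat_stalkMap f hnY x ?_)
    exact le_one_of_lt_two (not_le.1 h)
  haveI : IsNoetherian Y := { }
  have hZfin : Z.Finite := ModelMor.finite_of_closed_points hZc fun y hy => isClosed_singleton_of_two hdY.le (hdim y hy)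
  refine ⟨V, hVc ▸ hZfin, fun y hy => hdim y (not_not.1 hy), ?_, fun x hx => ?_, ?_⟩
  · rw [show (((f ⁻¹ᵁ V : X.Opens) : Set X)ᶜ) = f ⁻¹' Z from by ext; simp [V]]
    exact hZfin.preimage' fun y _ => f.finite_preimage_singleton y
  · refine le_antisymm ((SchTop.ringKrullDim_stalk_le x).trans hdX.le) ?_
    exact (hdim (f x) (not_not.1 hx)).ge.trans (ringKrullDim_le_of_finite f hnY x)
  · refine (Flat.iff_flat_stalkMap _).2 fun x => ?_
    have h : (f.stalkMap x.1).hom.Flat := by
      by_contra h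
      exact x.2 ⟨x.1, h, rfl⟩
    exact (RingHom.Flat.respectsIso.arrow_mk_iso_iff (morphismRestrictStalkMap f V x)).2 h

end Groth.Agent.NormFlat
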